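import Groth.Prelude.Def_Hensel
import Groth.Agent.ProEtLib2.IndEtaleHens
import Groth.Agent.S12237
import Groth.Agent.S2817

/-!
# Localisations of strict henselisations
-/

set_option autoImplicit false
set_option linter.style.haveILetI false
set_option linter.unusedSectionVars false

universe u

open IsLocalRing
open scoped TensorProduct

namespace Groth.Agent.GeomFacLib

/-- Strict henselisations transport along isomorphisms of the base. -/
theorem isStrictHenselization_of_ringEquiv {R R' T : Type u} [CommRing R] [IsLocalRing R] [CommRing R'] [IsLocalRing R']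
    [CommRing T] [IsLocalRing T] [Algebra R T] [Algebra R' T] [IsLocalHom (algebraMap R T)] [IsLocalHom (algebraMap R' T)]
    (e : R ≃+* R') (he : ∀ r, algebraMap R' T (e r) = algebraMap R T r) [h : Hensel.IsStrictHenselization R T] :
    Hensel.IsStrictHenselization R' T := by
  refine ⟨h.henselian, ⟨h.isSepClosure.sep_closed, ?_⟩, fun W _ _ f _ τ hτ => ?_⟩
  · haveI := h.isSepClosure.separable
    refine Algebra.IsSeparable.of_equiv_equiv (ResidueField.mapEquiv e) (RingEquiv.refl (ResidueField T))
      (RingHom.ext fun x => ?_)
    obtain ⟨r, rfl⟩ := residue_surjective (R := R) x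
    show algebraMap (ResidueField R') (ResidueField T) (residue R' (e r)) = algebraMap (ResidueField R) (ResidueField T) (residue R r)
    exact congrArg (residue T) (he r)
  · haveI : IsLocalHom (f.comp e.toRingHom) :=
      haveI : IsLocalHom e.toRingHom := ⟨fun r hr => (MulEquiv.isUnit_map e.toMulEquiv).1 hr⟩
      RingHom.isLocalHom_comp _ _
    obtain ⟨g, ⟨hg1, hg2⟩, huniq⟩ := h.universal W (f.comp e.toRingHom) τ (RingHom.ext fun x => by
      obtain ⟨r, rfl⟩ := residue_surjective (R := R) x
      have := RingHom.congr_fun hτ (residue R' (e r))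
      simp only [RingHom.comp_apply, ResidueField.map_residue, he] at this
      simp only [RingHom.comp_apply, ResidueField.map_residue]
      exact this)
    refine ⟨g, ⟨RingHom.ext fun r' => ?_, hg2⟩, fun g' hg' => huniq g' ⟨RingHom.ext fun r => ?_, hg'.2⟩⟩
    · obtain ⟨r, rfl⟩ := e.surjective r'
      show g (algebraMap R' T (e r)) = f (e r)
      rw [he]
      exact RingHom.congr_fun hg1 r
    · show g' (algebraMap R T r) = f (e r)
      rw [← he]
      exact RingHom.congr_fun hg'.1 (e r)

section

variable {R S : Type u} [CommRing R] [IsLocalRing R] [IsNoetherianRing R] [CommRing S] [IsLocalRing S]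
  [Algebra R S] [IsLocalHom (algebraMap R S)] [Hensel.IsStrictHenselization R S]

/-- Residue fields of a strict henselisation are separable over those of the ring. -/
theorem isSeparable_residue (p : Ideal R) [p.IsPrime] {K : Type u} [Field K] [Algebra p.ResidueField K]
    [Algebra R K] [IsScalarTower R p.ResidueField K] (φ : S →ₐ[R] K) (s : S) : IsSeparable p.ResidueField (φ s) := by
  obtain ⟨n, F, _, _, hsep, ⟨e⟩⟩ := Groth.Agent.S2817.result R S p
  let Λ : p.ResidueField ⊗[R] S →ₐ[p.ResidueField] K :=
    Algebra.TensorProduct.lift (Algebra.ofId p.ResidueField K) φ fun _ _ => Commute.all _ _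
  let Φ : (Π i, F i) →ₐ[p.ResidueField] K := Λ.comp e.symm.toAlgHom
  have hs : φ s = Φ (e (1 ⊗ₜ s)) := by
    show φ s = Λ (e.symm (e (1 ⊗ₜ s)))
    rw [e.symm_apply_apply, Algebra.TensorProduct.lift_tmul]
    exact ((congrArg (· * φ s) (map_one _)).trans (one_mul _)).symm
  classical
  obtain ⟨i, hi⟩ : ∃ i, Φ (Pi.single i 1) ≠ 0 := by
    by_contra hall
    push Not at hall
    have h1 : Φ (∑ i, Pi.single i 1) = 1 := by
      rw [show (∑ i, Pi.single i (1 : F i)) = 1 from Finset.univ_sum_single 1, map_one]
    rw [map_sum, Finset.sum_eq_zero fun i _ => hall i] at h1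
    exact zero_ne_one h1
  have hidem : Φ (Pi.single i 1) = 1 := by
    have h2 : Φ (Pi.single i 1) * Φ (Pi.single i 1) = Φ (Pi.single i 1) * 1 := by
      rw [← map_mul, mul_one, ← Pi.single_mul, mul_one]
    exact mul_left_cancel₀ hi h2
  let ψ : F i →ₐ[p.ResidueField] K :=
    { toFun := fun x => Φ (Pi.single i x)
      map_one' := hidem
      map_mul' := fun x y => by rw [← map_mul, ← Pi.single_mul]
      map_zero' := by rw [Pi.single_zero, map_zero]
      map_add' := fun x y => by rw [← map_add, Pi.single_add]
      commutes' := fun c => by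
        show Φ (Pi.single i (algebraMap p.ResidueField (F i) c)) = _
        rw [show Pi.single i (algebraMap p.ResidueField (F i) c) =
            algebraMap p.ResidueField (Π i, F i) c * Pi.single i 1 from ?_, map_mul, hidem, mul_one, AlgHom.commutes]
        funext j
        rcases eq_or_ne j i with rfl | hj
        · simp
        · simp [hj] }
  have hψ : φ s = ψ (e (1 ⊗ₜ s) i) := by
    show φ s = Φ (Pi.single i (e (1 ⊗ₜ s) i))
    rw [show Pi.single i (e (1 ⊗ₜ s) i) = e (1 ⊗ₜ s) * Pi.single i 1 from ?_, map_mul, hidem, mul_one, hs]
    funext j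
    rcases eq_or_ne j i with rfl | hj
    · simp
    · simp [hj]
  rw [hψ]
  haveI := hsep i
  have h := Algebra.IsSeparable.isSeparable p.ResidueField (e (1 ⊗ₜ s) i)
  unfold IsSeparable at h ⊢
  rwa [minpoly.algHom_eq ψ ψ.toRingHom.injective]

/-- A strict henselisation of a local ring of the strict henselisation is a strict henselisation of the
local ring below. -/
theorem isStrictHenselization_localization (q : Ideal S) [q.IsPrime] (p : Ideal R) [p.IsPrime] [q.LiesOver p]
    (T : Type u) [CommRing T] [IsLocalRing T] [Algebra (Localization.AtPrime q) T]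
    [IsLocalHom (algebraMap (Localization.AtPrime q) T)] [hT : Hensel.IsStrictHenselization (Localization.AtPrime q) T]
    [Algebra (Localization.AtPrime p) T] [IsLocalHom (algebraMap (Localization.AtPrime p) T)]
    (hcomp : (algebraMap (Localization.AtPrime p) T).comp (algebraMap R (Localization.AtPrime p)) =
      ((algebraMap (Localization.AtPrime q) T).comp (algebraMap S (Localization.AtPrime q))).comp (algebraMap R S)) :
    Hensel.IsStrictHenselization (Localization.AtPrime p) T := by
  let A := Localization.AtPrime p
  let B := Localization.AtPrime q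
  let ST : S →+* T := (algebraMap B T).comp (algebraMap S B)
  refine ⟨hT.henselian, ⟨hT.isSepClosure.sep_closed, ?_⟩, fun W _ _ f _ τ hτ => ?_⟩
  · letI : Algebra p.ResidueField (ResidueField T) := inferInstanceAs (Algebra (ResidueField A) (ResidueField T))
    letI : Algebra R (ResidueField T) := ((residue T).comp (ST.comp (algebraMap R S))).toAlgebra
    haveI : IsScalarTower R p.ResidueField (ResidueField T) := IsScalarTower.of_algebraMap_eq fun r => by
      show (residue T) ((ST.comp (algebraMap R S)) r) = residue T (algebraMap A T (algebraMap R A r))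
      rw [← RingHom.comp_apply (algebraMap A T), hcomp]
    let φ : S →ₐ[R] ResidueField T := ⟨(residue T).comp ST, fun r => rfl⟩
    let L := separableClosure p.ResidueField (ResidueField T)
    have hS : ∀ s : S, φ s ∈ L := fun s => mem_separableClosure_iff.2 (isSeparable_residue p φ s)
    letI : Algebra (ResidueField B) (ResidueField T) := inferInstance
    haveI := hT.isSepClosure.separable
    have hB : ∀ x : ResidueField B, algebraMap (ResidueField B) (ResidueField T) x ∈ L := fun x => by
      obtain ⟨b, rfl⟩ := residue_surjective (R := B) x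
      obtain ⟨⟨s, t⟩, rfl⟩ := IsLocalization.mk'_surjective q.primeCompl b
      have ht : IsUnit (algebraMap S B t.1) := IsLocalization.map_units B t
      have e1 : algebraMap (ResidueField B) (ResidueField T) (residue B (IsLocalization.mk' B s t)) =
          φ s * (φ t.1)⁻¹ := by
        have ht0 : φ t.1 ≠ 0 := IsUnit.ne_zero (ht.map ((residue T).comp (algebraMap B T)))
        rw [eq_mul_inv_iff_mul_eq₀ ht0]
        show residue T (algebraMap B T (IsLocalization.mk' B s t)) * residue T (algebraMap B T (algebraMap S B t.1)) =
          residue T (algebraMap B T (algebraMap S B s))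
        rw [← map_mul, ← map_mul, IsLocalization.mk'_spec]
      rw [e1]
      exact mul_mem (hS s) (inv_mem (hS t.1))
    let i : ResidueField B →+* L := (algebraMap (ResidueField B) (ResidueField T)).codRestrict L hB
    letI : Algebra (ResidueField B) L := i.toAlgebra
    haveI : IsScalarTower (ResidueField B) L (ResidueField T) := IsScalarTower.of_algebraMap_eq fun x => rfl
    haveI : Algebra.IsSeparable L (ResidueField T) :=
      Algebra.isSeparable_tower_top_of_isSeparable (ResidueField B) L (ResidueField T)
    exact Algebra.IsSeparable.trans p.ResidueField L (ResidueField T)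
  · letI : Algebra R W := (f.comp (algebraMap R A)).toAlgebra
    letI : Algebra R (ResidueField W) := ((residue W).comp (f.comp (algebraMap R A))).toAlgebra
    let u : S →ₐ[R] ResidueField W := ⟨τ.comp ((residue T).comp ST), fun r => by
      show τ (residue T (ST (algebraMap R S r))) = residue W (f (algebraMap R A r))
      rw [show ST (algebraMap R S r) = algebraMap A T (algebraMap R A r) from (RingHom.congr_fun hcomp r).symm]
      exact RingHom.congr_fun hτ (residue A (algebraMap R A r))⟩
    let qW : W →ₐ[R] ResidueField W := ⟨residue W, fun r => rfl⟩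
    obtain ⟨g₀, hg₀, hg₀u⟩ := ProEtLib2.existsUnique_lift (Groth.Agent.S12237.result R S) u qW residue_surjective
      (Ideal.mk_ker)
    have hg₀' : ∀ s, residue W (g₀ s) = τ (residue T (ST s)) := AlgHom.congr_fun hg₀
    have hunit : ∀ t : q.primeCompl, IsUnit (g₀ t.1) := fun t => by
      rw [← residue_ne_zero_iff_isUnit, hg₀']
      exact (map_ne_zero τ).2 ((residue_ne_zero_iff_isUnit _).2 ((IsLocalization.map_units B t).map (algebraMap B T)))
    let gB : B →+* W := IsLocalization.lift (M := q.primeCompl) (g := g₀.toRingHom) hunit
    have hgB : (residue W).comp gB = (τ.comp (residue T)).comp (algebraMap B T) :=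
      IsLocalization.ringHom_ext q.primeCompl (RingHom.ext fun s => by
        show residue W (gB (algebraMap S B s)) = _
        rw [IsLocalization.lift_eq]
        exact hg₀' s)
    haveI : IsLocalHom gB := ⟨fun b hb => by
      have h1 : τ (residue T (algebraMap B T b)) ≠ 0 :=
        ne_of_eq_of_ne (RingHom.congr_fun hgB b).symm ((residue_ne_zero_iff_isUnit _).2 hb)
      exact isUnit_of_map_unit (algebraMap B T) b ((residue_ne_zero_iff_isUnit _).1 fun h0 => h1 (by rw [h0, map_zero]))⟩
    obtain ⟨g, ⟨hg1, hg2⟩, huniq⟩ := hT.universal W gB τ (RingHom.ext fun x => by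
      obtain ⟨b, rfl⟩ := residue_surjective (R := B) x
      exact (RingHom.congr_fun hgB b).symm)
    have hgA : g.comp (algebraMap A T) = f := IsLocalization.ringHom_ext p.primeCompl (RingHom.ext fun r => by
      show g (algebraMap A T (algebraMap R A r)) = f (algebraMap R A r)
      rw [show algebraMap A T (algebraMap R A r) = ST (algebraMap R S r) from RingHom.congr_fun hcomp r]
      show g (algebraMap B T (algebraMap S B (algebraMap R S r))) = _
      rw [show g (algebraMap B T (algebraMap S B (algebraMap R S r))) = gB (algebraMap S B (algebraMap R S r)) from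
        RingHom.congr_fun hg1 _, IsLocalization.lift_eq]
      exact g₀.commutes r)
    refine ⟨g, ⟨hgA, hg2⟩, fun g' hg' => huniq g' ⟨IsLocalization.ringHom_ext q.primeCompl (RingHom.ext fun s => ?_), hg'.2⟩⟩
    let g'S : S →ₐ[R] W := ⟨g'.comp ST, fun r => by
      show g' (ST (algebraMap R S r)) = f (algebraMap R A r)
      rw [show ST (algebraMap R S r) = algebraMap A T (algebraMap R A r) from (RingHom.congr_fun hcomp r).symm]
      exact RingHom.congr_fun hg'.1 _⟩
    show g' (ST s) = gB (algebraMap S B s)
    rw [IsLocalization.lift_eq]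
    exact AlgHom.congr_fun (hg₀u g'S (AlgHom.ext fun x => hg'.2 (ST x))) s

end

end Groth.Agent.GeomFacLib
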